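import Mathlib

/-!
Iterated wreath products of groups of order two: sign, centre, and decompositions into two
commuting subgroups.
-/

set_option autoImplicit false

namespace Cfsg.Agent.Lib.SylowAltDecomp

open RegularWreathProduct

noncomputable section

theorem int_units_ne_one {s : ℤˣ} (h : s ≠ 1) : s = -1 :=
  (Int.units_eq_one_or s).resolve_left h

section Step

variable {D : Type*} [Group D]

theorem commute_coord {x y : D ≀ᵣ ℤˣ} (h : Commute x y) (q : ℤˣ) :
    x.left q * y.left (x.right⁻¹ * q) = y.left q * x.left (y.right⁻¹ * q) := by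
  have := congrFun (congrArg RegularWreathProduct.left h.eq) q
  simpa using this

/-- an element centralizing enough of a wreath product by a group of order two lies in the
diagonal -/
theorem diag_of_commute {x : D ≀ᵣ ℤˣ} (d : D) (hd : d ≠ 1)
    (h1 : Commute x ⟨Pi.mulSingle 1 d, 1⟩) (h2 : Commute x (inl (-1))) :
    x = ⟨fun _ => x.left 1, 1⟩ := by
  have hr : x.right = 1 := by
    by_contra hne
    have hs := int_units_ne_one hne
    have := commute_coord h1 (-1)
    simp [hs] at this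
    exact hd this
  refine RegularWreathProduct.ext (funext fun q => ?_) hr
  show x.left q = x.left 1
  rcases Int.units_eq_one_or q with rfl | rfl
  · rfl
  · have := commute_coord h2 1
    simpa [hr] using this.symm

theorem center_step (z : D) (hz : z ≠ 1) (hD : ∀ x : D, (∀ y, Commute x y) → x = 1 ∨ x = z)
    (x : D ≀ᵣ ℤˣ) (hx : ∀ y, Commute x y) : x = 1 ∨ x = ⟨fun _ => z, 1⟩ := by
  have hdiag := diag_of_commute z hz (hx _) (hx _)
  have hc : ∀ y, Commute (x.left 1) y := fun y => by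
    have := commute_coord (hx ⟨fun _ => y, 1⟩) 1
    simpa [Commute, SemiconjBy, show x.right = 1 from congrArg (·.right) hdiag] using this
  rcases hD _ hc with h | h
  · left; rw [hdiag, h]; rfl
  · right; rw [hdiag, h]

/-- If `A`, `B` commute and generate, and `a ∈ A` interchanges the two halves, then an element of
`B` fixing the halves is central. -/
theorem base_of_mover {A B : Subgroup (D ≀ᵣ ℤˣ)} (hAB : ∀ a ∈ A, ∀ b ∈ B, Commute a b)
    (hgen : A ⊔ B = ⊤) (z : D) (hD : ∀ x : D, (∀ y, Commute x y) → x = 1 ∨ x = z)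
    {a : D ≀ᵣ ℤˣ} (ha : a ∈ A) (har : a.right = -1) {b : D ≀ᵣ ℤˣ} (hb : b ∈ B) (hbr : b.right = 1) :
    b = 1 ∨ b = ⟨fun _ => z, 1⟩ := by
  have hle : (⊤ : Subgroup (D ≀ᵣ ℤˣ)) ≤ Subgroup.normalizer (B : Set (D ≀ᵣ ℤˣ)) := by
    rw [← hgen]
    refine sup_le (fun g hg => Subgroup.mem_normalizer_iff.2 fun h => ⟨fun hh => ?_, fun hh => ?_⟩)
      Subgroup.le_normalizer
    · rwa [(hAB g hg h hh).eq, mul_inv_cancel_right]
    · have h3 := (hAB g⁻¹ (inv_mem hg) _ hh).eq
      have h4 : h = g * h * g⁻¹ :=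
        calc h = g⁻¹ * (g * h * g⁻¹) * g := by group
          _ = g * h * g⁻¹ := by rw [h3, inv_mul_cancel_right]
      rwa [← h4] at hh
  have hconj : ∀ g, g * b * g⁻¹ ∈ B := fun g =>
    (Subgroup.mem_normalizer_iff.1 (hle (Subgroup.mem_top g)) b).1 hb
  have hrel : ∀ c ∈ B, c.right = 1 → a.left 1 * c.left (-1) = c.left 1 * a.left 1 := by
    intro c hc hcr
    have := commute_coord (hAB a ha c hc) 1
    simpa [har, hcr] using this
  have h0 := hrel b hb hbr
  have hc : ∀ g : D, Commute (b.left 1) g := fun g => by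
    have h := hrel _ (hconj ⟨Pi.mulSingle 1 g, 1⟩) (by simp [hbr])
    simp [hbr] at h
    have h' : g * b.left 1 * g⁻¹ * a.left 1 = b.left 1 * a.left 1 := by rw [← h, h0]
    have h'' := mul_right_cancel h'
    exact (mul_inv_eq_iff_eq_mul.1 h'').symm
  have h1 : b.left (-1) = b.left 1 := by
    rw [(hc (a.left 1)).eq] at h0
    exact mul_left_cancel h0
  have hb' : b = ⟨fun _ => b.left 1, 1⟩ := by
    refine RegularWreathProduct.ext (funext fun q => ?_) hbr
    rcases Int.units_eq_one_or q with rfl | rfl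
    · rfl
    · exact h1
  rcases hD _ hc with h | h
  · left; rw [hb', h]; rfl
  · right; rw [hb', h]

/-- In a wreath product by a group of order two, of two commuting subgroups generating the group
one is central. -/
theorem split_step (z : D) (hz : z ≠ 1) (hzc : ∀ g, Commute z g) (hD : ∀ x : D, (∀ y, Commute x y) → x = 1 ∨ x = z)
    (A B : Subgroup (D ≀ᵣ ℤˣ)) (hAB : ∀ a ∈ A, ∀ b ∈ B, Commute a b) (hgen : A ⊔ B = ⊤) :
    (∀ a ∈ A, a = 1 ∨ a = ⟨fun _ => z, 1⟩) ∨ (∀ b ∈ B, b = 1 ∨ b = ⟨fun _ => z, 1⟩) := by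
  set Z : D ≀ᵣ ℤˣ := ⟨fun _ => z, 1⟩
  have hBA : ∀ b ∈ B, ∀ a ∈ A, Commute b a := fun b hb a ha => (hAB a ha b hb).symm
  have hgen' : B ⊔ A = ⊤ := by rwa [sup_comm]
  by_cases hA : ∀ a ∈ A, a.right = 1
  · -- then some element of `B` moves
    obtain ⟨b, hb, hbr⟩ : ∃ b ∈ B, b.right = -1 := by
      by_contra hcon
      push Not at hcon
      have : (⊤ : Subgroup (D ≀ᵣ ℤˣ)) ≤ (rightHom : D ≀ᵣ ℤˣ →* ℤˣ).ker := by
        rw [← hgen]
        refine sup_le (fun g hg => hA g hg) fun g hg => ?_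
        by_contra hne
        exact hcon g hg (int_units_ne_one hne)
      have h1 : (inl (-1) : D ≀ᵣ ℤˣ).right = 1 :=
        MonoidHom.mem_ker.1 (this (Subgroup.mem_top (inl (-1))))
      simp at h1
    exact Or.inl fun a ha => base_of_mover hBA hgen' z hD hb hbr ha (hA a ha)
  push Not at hA
  obtain ⟨a, ha, har⟩ := hA
  have har := int_units_ne_one har
  by_cases hB : ∀ b ∈ B, b.right = 1
  · exact Or.inr fun b hb => base_of_mover hAB hgen z hD ha har hb (hB b hb)
  push Not at hB
  obtain ⟨b, hb, hbr⟩ := hB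
  have hbr := int_units_ne_one hbr
  exfalso
  -- then `a` is central
  have hZ : ∀ g, Commute Z g := fun g => by
    refine RegularWreathProduct.ext (funext fun q => ?_) (by simp [Z])
    simp [Z, (hzc _).eq]
  have haA : ∀ x ∈ A, Commute x a := by
    intro x hx
    have hbase : ∀ y ∈ A, y.right = 1 → Commute y a := fun y hy hyr => by
      rcases base_of_mover hBA hgen' z hD hb hbr hy hyr with rfl | rfl
      · exact Commute.one_left _
      · exact hZ a
    rcases eq_or_ne x.right 1 with h | h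
    · exact hbase x hx h
    · have := hbase (x * a⁻¹) (mul_mem hx (inv_mem ha)) (by simp [int_units_ne_one h, har])
      simpa using this.mul_left (Commute.refl a)
  have hac : ∀ g, Commute a g := fun g => by
    have hle : A ⊔ B ≤ Subgroup.centralizer {a} := sup_le
      (fun x hx => Subgroup.mem_centralizer_singleton_iff.2 (haA x hx).eq)
      (fun x hx => Subgroup.mem_centralizer_singleton_iff.2 (hAB a ha x hx).symm.eq)
    rw [hgen] at hle
    exact (Commute.symm (Subgroup.mem_centralizer_singleton_iff.1 (hle (Subgroup.mem_top g))))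
  rcases center_step z hz hD a hac with rfl | rfl <;> simp [Z] at har

theorem const_commute {z : D} (hz : ∀ g, Commute z g) (g : D ≀ᵣ ℤˣ) :
    Commute (⟨fun _ => z, 1⟩ : D ≀ᵣ ℤˣ) g :=
  RegularWreathProduct.ext (funext fun q => by simp [(hz _).eq]) (by simp)

theorem const_mul_self {z : D} (hz : z * z = 1) :
    (⟨fun _ => z, 1⟩ : D ≀ᵣ ℤˣ) * ⟨fun _ => z, 1⟩ = 1 :=
  RegularWreathProduct.ext (funext fun q => by simp [hz]) (by simp)

theorem single_mul_self {z : D} (hz : z * z = 1) :
    (⟨Pi.mulSingle 1 z, 1⟩ : D ≀ᵣ ℤˣ) * ⟨Pi.mulSingle 1 z, 1⟩ = 1 :=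
  RegularWreathProduct.ext
    (funext fun q => by rcases Int.units_eq_one_or q with rfl | rfl <;> simp [hz]) (by simp)

theorem root_mul_self (z : D) :
    (⟨Pi.mulSingle 1 z, -1⟩ : D ≀ᵣ ℤˣ) * ⟨Pi.mulSingle 1 z, -1⟩ = ⟨fun _ => z, 1⟩ :=
  RegularWreathProduct.ext
    (funext fun q => by rcases Int.units_eq_one_or q with rfl | rfl <;> simp) (by simp)

theorem single_not_commute {z : D} (hz : z ≠ 1) :
    ¬ Commute (⟨Pi.mulSingle 1 z, 1⟩ : D ≀ᵣ ℤˣ) (inl (-1)) := fun h => by
  have := commute_coord h 1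
  simp at this
  exact hz this

end Step

/-- the iterated wreath products of groups of order two -/
def Wr (n : ℕ) : Type := IteratedWreathProduct ℤˣ n

noncomputable instance (n : ℕ) : Group (Wr n) := inferInstanceAs (Group (IteratedWreathProduct ℤˣ n))

instance (n : ℕ) : Finite (Wr n) := inferInstanceAs (Finite (IteratedWreathProduct ℤˣ n))

/-- as permutations of `2 ^ n` points -/
abbrev wrPerm (n : ℕ) : Wr n →* Equiv.Perm (Fin n → ℤˣ) := iteratedWreathToPermHom ℤˣ n

/-- the sign -/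
def wrSign (n : ℕ) : Wr n →* ℤˣ := Equiv.Perm.sign.comp (wrPerm n)

theorem sign_wreath_perm {D Λ : Type*} [Group D] [Fintype Λ] [DecidableEq Λ] [MulAction D Λ]
    [FaithfulSMul D Λ] (w : D ≀ᵣ ℤˣ) :
    Equiv.Perm.sign (RegularWreathProduct.toPerm D ℤˣ Λ w) =
      (∏ q : ℤˣ, Equiv.Perm.sign (MulAction.toPermHom D Λ (w.left q))) *
        Equiv.Perm.sign (Equiv.mulLeft w.right) ^ Fintype.card Λ := by
  have h : RegularWreathProduct.toPerm D ℤˣ Λ w =
      Equiv.prodCongrLeft (fun q => MulAction.toPermHom D Λ (w.left q)) *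
        Equiv.prodCongrRight (fun _ : Λ => Equiv.mulLeft w.right) :=
    Equiv.ext fun p => rfl
  rw [h, map_mul, Equiv.Perm.sign_prodCongrLeft, Equiv.Perm.sign_prodCongrRight, Finset.prod_const,
    Finset.card_univ]

theorem wrSign_succ (n : ℕ) (w : Wr (n + 1)) :
    wrSign (n + 1) w = (wrSign n (w.left 1) * wrSign n (w.left (-1))) *
      Equiv.Perm.sign (Equiv.mulLeft w.right) ^ 2 ^ n := by
  letI := MulAction.compHom (Fin n → ℤˣ) (wrPerm n)
  haveI : FaithfulSMul (Wr n) (Fin n → ℤˣ) :=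
    ⟨fun h => iteratedWreathToPermHomInj ℤˣ n (Equiv.ext h)⟩
  have key := sign_wreath_perm (D := Wr n) (Λ := Fin n → ℤˣ) w
  refine ((Equiv.Perm.sign_permCongr _ _).trans key).trans ?_
  congr 1
  · rw [UnitsInt.univ, Finset.prod_pair (by decide)]
    congr 1 <;> exact congrArg Equiv.Perm.sign (Equiv.ext fun _ => rfl)
  · simp

theorem wrSign_succ_succ (n : ℕ) (w : Wr (n + 2)) :
    wrSign (n + 2) w = wrSign (n + 1) (w.left 1) * wrSign (n + 1) (w.left (-1)) := by
  rw [wrSign_succ, pow_succ', pow_mul, Int.units_sq, one_pow, mul_one]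

instance : Subsingleton (Wr 0) := inferInstanceAs (Subsingleton PUnit)

/-- the central involution -/
def cen : (n : ℕ) → Wr n
  | 0 => 1
  | 1 => inl (-1)
  | n + 2 => ⟨fun _ => cen (n + 1), 1⟩

theorem cen_ne_one : ∀ n, cen (n + 1) ≠ 1
  | 0 => fun h => by
    exact absurd (congrArg RegularWreathProduct.right h) (show ¬ ((-1 : ℤˣ) = 1) by decide)
  | n + 1 => fun h => cen_ne_one n (congrFun (congrArg RegularWreathProduct.left h) 1)

theorem cen_commute : ∀ n (g : Wr n), Commute (cen n) g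
  | 0, _ => Subsingleton.elim _ _
  | 1, g => RegularWreathProduct.ext (funext fun _ => Subsingleton.elim (α := Wr 0) _ _)
      (mul_comm _ _)
  | n + 2, g => const_commute (cen_commute (n + 1)) g

theorem cen_mul_self : ∀ n, cen n * cen n = 1
  | 0 => Subsingleton.elim _ _
  | 1 => RegularWreathProduct.ext (funext fun _ => Subsingleton.elim (α := Wr 0) _ _)
      (Int.units_mul_self _)
  | n + 2 => const_mul_self (cen_mul_self (n + 1))

theorem center_wr : ∀ n (x : Wr n), (∀ y, Commute x y) → x = 1 ∨ x = cen n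
  | 0, _, _ => Or.inl (Subsingleton.elim _ _)
  | 1, x, _ => by
    rcases Int.units_eq_one_or x.right with h | h
    · exact Or.inl (RegularWreathProduct.ext (funext fun _ => Subsingleton.elim (α := Wr 0) _ _) h)
    · exact Or.inr (RegularWreathProduct.ext (funext fun _ => Subsingleton.elim (α := Wr 0) _ _) h)
  | n + 2, x, hx => center_step _ (cen_ne_one n) (center_wr (n + 1)) x hx

theorem split_wr (n : ℕ) (A B : Subgroup (Wr (n + 2))) (hAB : ∀ a ∈ A, ∀ b ∈ B, Commute a b)
    (hgen : A ⊔ B = ⊤) :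
    (∀ a ∈ A, a = 1 ∨ a = cen (n + 2)) ∨ ∀ b ∈ B, b = 1 ∨ b = cen (n + 2) :=
  split_step _ (cen_ne_one n) (cen_commute _) (center_wr (n + 1)) A B hAB hgen

/-- a transposition -/
def swp : (n : ℕ) → Wr n
  | 0 => 1
  | 1 => inl (-1)
  | n + 2 => ⟨Pi.mulSingle 1 (swp (n + 1)), 1⟩

theorem swp_mul_self : ∀ n, swp n * swp n = 1
  | 0 => Subsingleton.elim _ _
  | 1 => RegularWreathProduct.ext (funext fun _ => Subsingleton.elim (α := Wr 0) _ _)
      (Int.units_mul_self _)
  | n + 2 => single_mul_self (swp_mul_self (n + 1))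

theorem wrSign_swp : ∀ n, wrSign (n + 1) (swp (n + 1)) = -1
  | 0 => by
    rw [wrSign_succ, Subsingleton.elim (α := Wr 0) ((swp 1).left 1) 1,
      Subsingleton.elim (α := Wr 0) ((swp 1).left (-1)) 1,
      map_one, one_mul, one_mul, pow_zero, pow_one]
    decide
  | n + 1 => by
    rw [wrSign_succ_succ]
    show wrSign (n + 1) ((Pi.mulSingle 1 (swp (n + 1)) : ℤˣ → Wr (n + 1)) 1) *
      wrSign (n + 1) ((Pi.mulSingle 1 (swp (n + 1)) : ℤˣ → Wr (n + 1)) (-1)) = -1
    rw [Pi.mulSingle_eq_same, Pi.mulSingle_eq_of_ne (by decide), map_one, mul_one, wrSign_swp n]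

/-- a square root of the central involution -/
def rtc (n : ℕ) : Wr (n + 2) := ⟨Pi.mulSingle 1 (cen (n + 1)), -1⟩

theorem rtc_mul_self (n : ℕ) : rtc n * rtc n = cen (n + 2) := root_mul_self (cen (n + 1))

theorem wrSign_cen (n : ℕ) : wrSign (n + 2) (cen (n + 2)) = 1 := by
  rw [← rtc_mul_self, map_mul, Int.units_mul_self]

/-- the centre of the kernel of the sign -/
theorem center_even (n : ℕ) (x : Wr (n + 3))
    (hx : ∀ y, wrSign (n + 3) y = 1 → Commute x y) : x = 1 ∨ x = cen (n + 3) := by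
  have h1 : wrSign (n + 3) (⟨Pi.mulSingle 1 (cen (n + 2)), 1⟩ : Wr (n + 3)) = 1 := by
    refine (wrSign_succ_succ (n + 1) _).trans ?_
    show wrSign (n + 2) ((Pi.mulSingle 1 (cen (n + 2)) : ℤˣ → Wr (n + 2)) 1) *
      wrSign (n + 2) ((Pi.mulSingle 1 (cen (n + 2)) : ℤˣ → Wr (n + 2)) (-1)) = 1
    rw [Pi.mulSingle_eq_same, Pi.mulSingle_eq_of_ne (by decide), wrSign_cen, map_one, one_mul]
  have h2 : wrSign (n + 3) (inl (-1) : Wr (n + 3)) = 1 := by
    refine (wrSign_succ_succ (n + 1) _).trans ?_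
    show wrSign (n + 2) (1 : Wr (n + 2)) * wrSign (n + 2) 1 = 1
    rw [map_one, one_mul]
  have hdiag := diag_of_commute _ (cen_ne_one (n + 1)) (hx _ h1) (hx _ h2)
  have hr : x.right = 1 := congrArg (·.right) hdiag
  have hc : ∀ g, Commute (x.left 1) g := fun g => by
    let k : ℤˣ → Wr (n + 2) := fun q =>
      if q = 1 then g else if wrSign (n + 2) g = 1 then 1 else swp (n + 2)
    have hk : wrSign (n + 3) (⟨k, 1⟩ : Wr (n + 3)) = 1 := by
      refine (wrSign_succ_succ (n + 1) _).trans ?_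
      show wrSign (n + 2) (k 1) * wrSign (n + 2) (k (-1)) = 1
      rcases Int.units_eq_one_or (wrSign (n + 2) g) with h | h
      · have hk' : k (-1) = 1 := (if_neg (by decide)).trans (if_pos h)
        rw [hk', show k 1 = g from if_pos rfl]
        exact (congrArg₂ (· * ·) h (map_one _)).trans (one_mul _)
      · have hk' : k (-1) = swp (n + 2) :=
          (if_neg (by decide)).trans (if_neg (fun h1 => absurd (h.symm.trans h1) (by decide)))
        rw [hk', show k 1 = g from if_pos rfl]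
        exact (congrArg₂ (· * ·) h (wrSign_swp (n + 1))).trans (Int.units_mul_self _)
    have := commute_coord (hx _ hk) 1
    simpa [Commute, SemiconjBy, hr, k] using this
  rcases center_wr (n + 2) _ hc with h | h
  · left; rw [hdiag, h]; rfl
  · right; rw [hdiag, h]; rfl

theorem card_wr : ∀ n, Nat.card (Wr n) * 2 = 2 ^ 2 ^ n
  | 0 => by simp
  | n + 1 => by
    show Nat.card (Wr n ≀ᵣ ℤˣ) * 2 = _
    rw [RegularWreathProduct.card, Nat.card_eq_fintype_card (α := ℤˣ), Fintype.card_units_int,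
      pow_succ 2 n, pow_mul, ← card_wr n]
    ring

theorem isPGroup_wr : ∀ n, IsPGroup 2 (Wr n) := fun n => by
  have h := card_wr n
  obtain ⟨m, hm⟩ := (Nat.dvd_prime_pow Nat.prime_two).1 ⟨2, h.symm⟩
  exact IsPGroup.of_card hm.2

theorem not_commutative_wr (n : ℕ) : ∃ x y : Wr (n + 2), ¬ Commute x y :=
  ⟨_, _, single_not_commute (cen_ne_one n)⟩

end

end Cfsg.Agent.Lib.SylowAltDecomp
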