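import Mathlib
import Cfsg.Agent.Lib.SylowAltDecomp.Wreath

/-!
Direct decompositions of products of iterated wreath products and of the kernel of the product of
their signs.
-/

set_option autoImplicit false

namespace Cfsg.Agent.Lib.SylowAltDecomp

noncomputable section

/-- a decomposition into two nontrivial direct factors exists -/
def Dec (G : Type*) [Group G] : Prop :=
  ∃ A B : Subgroup G, A ≠ ⊥ ∧ B ≠ ⊥ ∧ (∀ a ∈ A, ∀ b ∈ B, Commute a b) ∧ A ⊓ B = ⊥ ∧ A ⊔ B = ⊤

theorem Dec.of_equiv {G H : Type*} [Group G] [Group H] (h : Dec G) (e : G ≃* H) : Dec H := by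
  obtain ⟨A, B, hA, hB, hc, hi, hs⟩ := h
  refine ⟨A.map e.toMonoidHom, B.map e.toMonoidHom, ?_, ?_, ?_, ?_, ?_⟩
  · rwa [Ne, Subgroup.map_eq_bot_iff_of_injective _ e.injective]
  · rwa [Ne, Subgroup.map_eq_bot_iff_of_injective _ e.injective]
  · rintro _ ⟨a, ha, rfl⟩ _ ⟨b, hb, rfl⟩
    exact (hc a ha b hb).map e.toMonoidHom
  · rw [← Subgroup.map_inf _ _ _ e.injective, hi, Subgroup.map_bot]
  · rw [← Subgroup.map_sup, hs, Subgroup.map_top_of_surjective _ e.surjective]

theorem dec_iff_internal {G : Type*} [Group G] (P : Subgroup G) :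
    (∃ S₁ S₂ : Subgroup G, S₁ ≠ ⊥ ∧ S₂ ≠ ⊥ ∧ S₁ ≤ P ∧ S₂ ≤ P ∧
      (∀ a ∈ S₁, ∀ b ∈ S₂, a * b = b * a) ∧ S₁ ⊓ S₂ = ⊥ ∧ S₁ ⊔ S₂ = P) ↔ Dec P := by
  constructor
  · rintro ⟨S₁, S₂, h1, h2, l1, l2, hc, hi, hs⟩
    refine ⟨S₁.subgroupOf P, S₂.subgroupOf P, ?_, ?_, ?_, ?_, ?_⟩
    · rw [Ne, Subgroup.subgroupOf_eq_bot, disjoint_iff, inf_eq_left.2 l1]; exact h1
    · rw [Ne, Subgroup.subgroupOf_eq_bot, disjoint_iff, inf_eq_left.2 l2]; exact h2
    · exact fun a ha b hb => Subtype.ext (hc _ ha _ hb)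
    · rw [eq_bot_iff]
      rintro x ⟨hx, hy⟩
      have : (x : G) ∈ S₁ ⊓ S₂ := ⟨hx, hy⟩
      rw [hi, Subgroup.mem_bot] at this
      exact Subgroup.mem_bot.2 (Subtype.ext this)
    · rw [← Subgroup.subgroupOf_sup l1 l2, hs, Subgroup.subgroupOf_self]
  · rintro ⟨A, B, hA, hB, hc, hi, hs⟩
    refine ⟨A.map P.subtype, B.map P.subtype, ?_, ?_, Subgroup.map_subtype_le _,
      Subgroup.map_subtype_le _, ?_, ?_, ?_⟩
    · rwa [Ne, Subgroup.map_eq_bot_iff_of_injective _ P.subtype_injective]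
    · rwa [Ne, Subgroup.map_eq_bot_iff_of_injective _ P.subtype_injective]
    · rintro _ ⟨a, ha, rfl⟩ _ ⟨b, hb, rfl⟩
      exact ((hc a ha b hb).map P.subtype).eq
    · rw [← Subgroup.map_inf _ _ _ P.subtype_injective, hi, Subgroup.map_bot]
    · rw [← Subgroup.map_sup, hs, ← MonoidHom.range_eq_map, Subgroup.range_subtype]

/-- A decomposable `2`-group has two distinct central involutions. -/
theorem Dec.two_central {G : Type*} [Group G] [Finite G] (hG : IsPGroup 2 G) (h : Dec G) :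
    ∃ a b : G, a ≠ 1 ∧ b ≠ 1 ∧ a ≠ b ∧ (∀ g, Commute a g) ∧ ∀ g, Commute b g := by
  haveI : Fact (Nat.Prime 2) := ⟨Nat.prime_two⟩
  obtain ⟨A, B, hA, hB, hc, hi, hs⟩ := h
  have key : ∀ A B : Subgroup G, A ≠ ⊥ → (∀ a ∈ A, ∀ b ∈ B, Commute a b) → A ⊔ B = ⊤ →
      ∃ a ∈ A, a ≠ 1 ∧ ∀ g, Commute a g := by
    intro A B hA hc hs
    haveI : Nontrivial A := (Subgroup.nontrivial_iff_ne_bot A).2 hA
    haveI := (hG.to_subgroup A).center_nontrivial
    obtain ⟨⟨⟨a, ha⟩, hac⟩, hne⟩ := exists_ne (1 : Subgroup.center A)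
    refine ⟨a, ha, fun h => hne (Subtype.ext (Subtype.ext h)), fun g => ?_⟩
    have hle : A ⊔ B ≤ Subgroup.centralizer {a} := sup_le
      (fun x hx => Subgroup.mem_centralizer_singleton_iff.2
        (congrArg Subtype.val (Subgroup.mem_center_iff.1 hac ⟨x, hx⟩)))
      (fun x hx => Subgroup.mem_centralizer_singleton_iff.2 (hc a ha x hx).symm.eq)
    rw [hs] at hle
    exact (Subgroup.mem_centralizer_singleton_iff.1 (hle (Subgroup.mem_top g))).symm
  obtain ⟨a, ha, ha1, hac⟩ := key A B hA hc hs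
  obtain ⟨b, hb, hb1, hbc⟩ := key B A hB (fun x hx y hy => (hc y hy x hx).symm)
    (by rwa [sup_comm])
  refine ⟨a, b, ha1, hb1, ?_, hac, hbc⟩
  rintro rfl
  exact ha1 (Subgroup.mem_bot.1 (hi ▸ Subgroup.mem_inf.2 ⟨ha, hb⟩))

variable {ι : Type*}

/-- a product of iterated wreath products -/
abbrev PW (k : ι → ℕ) : Type _ := ∀ i, Wr (k i + 2)

variable [Fintype ι]

/-- the product of the signs -/
def prodSign (k : ι → ℕ) : PW k →* ℤˣ where
  toFun x := ∏ i, wrSign _ (x i)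
  map_one' := by simp
  map_mul' x y := by simp [Finset.prod_mul_distrib]

variable [DecidableEq ι]

theorem prodSign_single (k : ι → ℕ) (i : ι) (w : Wr (k i + 2)) :
    prodSign k (Pi.mulSingle i w) = wrSign _ w := by
  show ∏ j, wrSign _ ((Pi.mulSingle i w : PW k) j) = _
  rw [Finset.prod_eq_single i (fun j _ hj => by rw [Pi.mulSingle_eq_of_ne hj, map_one])
    (fun h => absurd (Finset.mem_univ i) h), Pi.mulSingle_eq_same]

theorem center_PW (k : ι → ℕ) (x : PW k) (hx : ∀ y, Commute x y) (i : ι) :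
    x i = 1 ∨ x i = cen _ :=
  center_wr _ _ fun w => by
    have := congrFun (hx (Pi.mulSingle i w)).eq i
    simpa [Commute, SemiconjBy] using this

theorem isPGroup_PW (k : ι → ℕ) : IsPGroup 2 (PW k) := by
  intro x
  choose e he using fun i => isPGroup_wr (k i + 2) (x i)
  refine ⟨∑ i, e i, funext fun i => ?_⟩
  obtain ⟨c, hc⟩ : ∃ c, ∑ j, e j = e i + c :=
    Nat.exists_eq_add_of_le (Finset.single_le_sum (fun j _ => Nat.zero_le _) (Finset.mem_univ i))
  show x i ^ 2 ^ (∑ j, e j) = 1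
  rw [hc, pow_add, pow_mul, he, one_pow]

/-- the full product with one factor -/
theorem not_dec_single (k : ι → ℕ) (i₀ : ι) (h : ∀ i, i = i₀) : ¬ Dec (PW k) := by
  intro hd
  obtain ⟨a, b, ha, hb, hab, hac, hbc⟩ := hd.two_central (isPGroup_PW k)
  have key : ∀ x : PW k, x ≠ 1 → (∀ g, Commute x g) → x i₀ = cen _ := fun x hx hxc =>
    (center_PW k x hxc i₀).resolve_left fun h1 => hx (funext fun i => by rw [h i]; exact h1)
  exact hab (funext fun i => by rw [h i, key a ha hac, key b hb hbc])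

/-- the full product with at least two factors -/
theorem dec_multi (k : ι → ℕ) (i j : ι) (hij : i ≠ j) : Dec (PW k) := by
  refine ⟨(MonoidHom.mulSingle (fun l => Wr (k l + 2)) i).range,
    (Pi.evalMonoidHom (fun l => Wr (k l + 2)) i).ker, ?_, ?_, ?_, ?_, ?_⟩
  · intro h
    have h1 : Pi.mulSingle i (cen (k i + 2)) ∈
        (MonoidHom.mulSingle (fun l => Wr (k l + 2)) i).range := ⟨_, rfl⟩
    rw [h, Subgroup.mem_bot, Pi.mulSingle_eq_one_iff] at h1
    exact cen_ne_one _ h1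
  · intro h
    have h1 : (Pi.mulSingle j (cen (k j + 2)) : PW k) ∈
        (Pi.evalMonoidHom (fun l => Wr (k l + 2)) i).ker := by
      simp [MonoidHom.mem_ker, Pi.mulSingle_eq_of_ne hij]
    rw [h, Subgroup.mem_bot, Pi.mulSingle_eq_one_iff] at h1
    exact cen_ne_one _ h1
  · rintro _ ⟨w, rfl⟩ b hb
    have hb' : b i = 1 := hb
    refine funext fun l => ?_
    rcases eq_or_ne l i with rfl | hl
    · simp [hb']
    · simp [Pi.mulSingle_eq_of_ne hl]
  · rw [eq_bot_iff]
    rintro _ ⟨⟨w, rfl⟩, hw⟩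
    have hw' : (Pi.mulSingle i w : PW k) i = 1 := hw
    rw [Pi.mulSingle_eq_same] at hw'
    simp [hw']
  · refine eq_top_iff.2 fun x _ => ?_
    have h1 : x = Pi.mulSingle i (x i) * ((Pi.mulSingle i (x i))⁻¹ * x) := by simp
    rw [h1]
    refine mul_mem (Subgroup.mem_sup_left ⟨_, rfl⟩) (Subgroup.mem_sup_right ?_)
    simp [MonoidHom.mem_ker]

/-- the kernel of the product of the signs -/
abbrev EvenPW (k : ι → ℕ) : Subgroup (PW k) := (prodSign k).ker

/-- a component of an element of the kernel -/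
def proj (k : ι → ℕ) (i : ι) : ↥(EvenPW k) →* Wr (k i + 2) :=
  (Pi.evalMonoidHom (fun l => Wr (k l + 2)) i).comp (EvenPW k).subtype

theorem exists_even_pair (k : ι → ℕ) (i j : ι) (hji : j ≠ i) (w : Wr (k i + 2)) :
    ∃ σ : Wr (k j + 2), σ * σ = 1 ∧ prodSign k (Pi.mulSingle i w * Pi.mulSingle j σ) = 1 := by
  rcases Int.units_eq_one_or (wrSign _ w) with h | h
  · exact ⟨1, one_mul _, by simp [map_mul, prodSign_single, h]⟩
  · exact ⟨swp _, swp_mul_self _, by simp [map_mul, prodSign_single, h, wrSign_swp]⟩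

theorem cen_or_not (k : ι → ℕ) (hm : ∀ i : ι, ∃ j, j ≠ i) (A B : Subgroup ↥(EvenPW k))
    (hc : ∀ a ∈ A, ∀ b ∈ B, Commute a b) (hs : A ⊔ B = ⊤) :
    (∀ b ∈ B, ∀ i, b.1 i = 1 ∨ b.1 i = cen _) ∨ ∀ a ∈ A, ∀ i, a.1 i = 1 ∨ a.1 i = cen _ := by
  classical
  have hsplit : ∀ i, (∀ b ∈ B, b.1 i = 1 ∨ b.1 i = cen _) ∨ (∀ a ∈ A, a.1 i = 1 ∨ a.1 i = cen _) := by
    intro i
    obtain ⟨j, hj⟩ := hm i
    have hsurj : Function.Surjective (proj k i) := fun w => by
      obtain ⟨σ, -, hσ⟩ := exists_even_pair k i j hj w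
      exact ⟨⟨_, hσ⟩, by simp [proj, Pi.mulSingle_eq_of_ne hj.symm]⟩
    rcases split_wr _ (A.map (proj k i)) (B.map (proj k i))
      (by rintro _ ⟨a, ha, rfl⟩ _ ⟨b, hb, rfl⟩; exact (hc a ha b hb).map _)
      (by rw [← Subgroup.map_sup, hs, Subgroup.map_top_of_surjective _ hsurj]) with h | h
    · exact Or.inr fun a ha => h _ (Subgroup.mem_map_of_mem _ ha)
    · exact Or.inl fun b hb => h _ (Subgroup.mem_map_of_mem _ hb)
  by_contra hcon
  push Not at hcon
  obtain ⟨⟨b, hb, j, hbj⟩, ⟨a, ha, i, hai⟩⟩ := hcon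
  have hBi : ∀ b ∈ B, b.1 i = 1 ∨ b.1 i = cen _ :=
    (hsplit i).resolve_right fun h => (h a ha).elim hai.1 hai.2
  have hAj : ∀ a ∈ A, a.1 j = 1 ∨ a.1 j = cen _ :=
    (hsplit j).resolve_left fun h => (h b hb).elim hbj.1 hbj.2
  have hij : j ≠ i := by
    rintro rfl
    exact (hBi b hb).elim hbj.1 hbj.2
  let p : PW k := Pi.mulSingle i (swp _) * Pi.mulSingle j (swp _)
  have hp : p ∈ EvenPW k := by
    simp [p, MonoidHom.mem_ker, map_mul, prodSign_single, wrSign_swp]
  obtain ⟨x, hx, y, hy, hxy⟩ : ∃ x ∈ A, ∃ y ∈ B, x * y = (⟨p, hp⟩ : ↥(EvenPW k)) := by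
    haveI : A.Normal := by
      refine ⟨fun h hh g => ?_⟩
      have hle : (⊤ : Subgroup ↥(EvenPW k)) ≤ Subgroup.normalizer (A : Set ↥(EvenPW k)) := by
        rw [← hs]
        exact sup_le Subgroup.le_normalizer (le_trans
          (fun g hg => Subgroup.mem_centralizer_iff.2 fun a ha => (hc a ha g hg).eq)
          (Subgroup.centralizer_le_normalizer _))
      exact (Subgroup.mem_normalizer_iff.1 (hle (Subgroup.mem_top g)) h).1 hh
    exact Subgroup.mem_sup_of_normal_left.1 (hs ▸ Subgroup.mem_top _)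
  have hz : ∀ {l : ι} {w : Wr (k l + 2)}, w = 1 ∨ w = cen _ → wrSign _ w = 1 := by
    rintro l w (rfl | rfl)
    · exact map_one _
    · exact wrSign_cen _
  have hval : ∀ l, wrSign _ (x.1 l) = if l = i then -1 else 1 := by
    intro l
    have hpl : x.1 l * y.1 l = p l := congrFun (congrArg Subtype.val hxy) l
    have hmul : wrSign _ (x.1 l) * wrSign _ (y.1 l) = wrSign _ (p l) := by rw [← map_mul, hpl]
    rcases eq_or_ne l i with rfl | hl
    · rw [hz (hBi y hy), mul_one] at hmul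
      rw [if_pos rfl, hmul]
      simp [p, Pi.mulSingle_eq_of_ne hij.symm, wrSign_swp]
    · rw [if_neg hl]
      rcases hsplit l with h | h
      · rw [hz (h y hy), mul_one] at hmul
        rw [hmul]
        rcases eq_or_ne l j with rfl | hlj
        · exact absurd (h b hb) (by rintro (h1 | h1); exacts [hbj.1 h1, hbj.2 h1])
        · simp [p, Pi.mulSingle_eq_of_ne hl, Pi.mulSingle_eq_of_ne hlj]
      · exact hz (h x hx)
  have h1 : prodSign k x.1 = 1 := x.2
  have h2 : prodSign k x.1 = -1 := by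
    show ∏ l, wrSign _ (x.1 l) = -1
    simp [hval]
  rw [h1] at h2
  exact absurd h2 (by decide)

/-- if one side consists of central involutions it lies in the other side -/
theorem le_of_central (k : ι → ℕ) (hm : ∀ i : ι, ∃ j, j ≠ i) (A B : Subgroup ↥(EvenPW k))
    (hc : ∀ a ∈ A, ∀ b ∈ B, Commute a b) (hs : A ⊔ B = ⊤)
    (hB : ∀ b ∈ B, ∀ i, b.1 i = 1 ∨ b.1 i = cen _) : B ≤ A := by
  have hB2 : ∀ b ∈ B, b * b = 1 := fun b hb => Subtype.ext (funext fun i => by
    show b.1 i * b.1 i = 1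
    rcases hB b hb i with h | h <;> rw [h]
    · exact one_mul _
    · exact cen_mul_self _)
  have hsq : ∀ e : ↥(EvenPW k), e * e ∈ A := by
    intro e
    haveI : B.Normal := by
      refine ⟨fun h hh g => ?_⟩
      have hle : (⊤ : Subgroup ↥(EvenPW k)) ≤ Subgroup.normalizer (B : Set ↥(EvenPW k)) := by
        rw [← hs]
        exact sup_le (le_trans
          (fun g hg => Subgroup.mem_centralizer_iff.2 fun b hb => (hc g hg b hb).symm.eq)
          (Subgroup.centralizer_le_normalizer _)) Subgroup.le_normalizer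
      exact (Subgroup.mem_normalizer_iff.1 (hle (Subgroup.mem_top g)) h).1 hh
    obtain ⟨a, ha, b, hb, rfl⟩ := Subgroup.mem_sup_of_normal_right.1 (hs ▸ Subgroup.mem_top e)
    rw [show a * b * (a * b) = a * a * (b * b) from (hc a ha b hb).symm.mul_mul_mul_comm a b,
      hB2 b hb, mul_one]
    exact mul_mem ha ha
  intro b hb
  have hsingle : ∀ i, (Pi.mulSingle i (b.1 i) : PW k) ∈ A.map (EvenPW k).subtype := by
    intro i
    rcases hB b hb i with h | h
    · rw [h, Pi.mulSingle_one]; exact one_mem _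
    · obtain ⟨j, hj⟩ := hm i
      obtain ⟨σ, hσ, hp⟩ := exists_even_pair k i j hj (rtc (k i))
      refine ⟨_, hsq ⟨_, hp⟩, ?_⟩
      rw [map_mul]
      show (Pi.mulSingle i (rtc (k i)) * Pi.mulSingle j σ : PW k) *
        (Pi.mulSingle i (rtc (k i)) * Pi.mulSingle j σ) = _
      rw [(Pi.mulSingle_commute (f := fun l => Wr (k l + 2)) hj σ (rtc (k i))).mul_mul_mul_comm, ← Pi.mulSingle_mul,
        ← Pi.mulSingle_mul, hσ, rtc_mul_self, Pi.mulSingle_one, mul_one, h]
  obtain ⟨a, ha, hab⟩ := Subgroup.pi_mem_of_mulSingle_mem b.1 hsingle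
  rwa [← Subtype.ext hab]

/-- the kernel of the product of signs is indecomposable except in degree four -/
theorem not_dec_even (k : ι → ℕ) (hcase : (∀ i : ι, ∃ j, j ≠ i) ∨
    ∃ i₀ : ι, (∀ i, i = i₀) ∧ 1 ≤ k i₀) : ¬ Dec ↥(EvenPW k) := by
  intro hd
  rcases hcase with hm | ⟨i₀, h, hk⟩
  · obtain ⟨A, B, hA, hB, hc, hi, hs⟩ := hd
    rcases cen_or_not k hm A B hc hs with h | h
    · exact hB (eq_bot_iff.2 (hi ▸ le_inf (le_of_central k hm A B hc hs h) le_rfl))
    · exact hA (eq_bot_iff.2 (hi ▸ le_inf le_rfl (le_of_central k hm B A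
        (fun x hx y hy => (hc y hy x hx).symm) (by rwa [sup_comm]) h)))
  · obtain ⟨a, b, ha, hb, hab, hac, hbc⟩ :=
      hd.two_central ((isPGroup_PW k).to_subgroup (EvenPW k))
    obtain ⟨n, hn⟩ : ∃ n, k i₀ = n + 1 := ⟨k i₀ - 1, by omega⟩
    have key : ∀ x : ↥(EvenPW k), x ≠ 1 → (∀ g, Commute x g) → x.1 i₀ = cen _ := by
      intro x hx hxc
      have hgen : ∀ (m : ℕ) (y : Wr (m + 2)), 1 ≤ m →
          (∀ w, wrSign (m + 2) w = 1 → Commute y w) → y = 1 ∨ y = cen (m + 2) := by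
        rintro (_ | m) y h1 hy
        · omega
        · exact center_even m y hy
      refine (hgen _ (x.1 i₀) hk fun w hw => ?_).resolve_left fun h1 =>
        hx (Subtype.ext (funext fun i => by rw [h i]; exact h1))
      have hw' : (Pi.mulSingle i₀ w : PW k) ∈ EvenPW k := (prodSign_single k i₀ w).trans hw
      have h2 := congrFun (congrArg Subtype.val (hxc ⟨_, hw'⟩).eq) i₀
      simpa [Commute, SemiconjBy] using h2
    exact hab (Subtype.ext (funext fun i => by rw [h i, key a ha hac, key b hb hbc]))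

theorem card_PW (k : ι → ℕ) :
    Nat.card (PW k) * 2 ^ Fintype.card ι = 2 ^ (∑ i, 2 ^ (k i + 2)) := by
  rw [Nat.card_pi, Fintype.card, ← Finset.prod_const, ← Finset.prod_mul_distrib,
    Finset.prod_congr rfl (fun i _ => card_wr (k i + 2)), Finset.prod_pow_eq_pow_sum]

theorem card_even (k : ι → ℕ) (i₀ : ι) : Nat.card ↥(EvenPW k) * 2 = Nat.card (PW k) := by
  have hs : Function.Surjective (prodSign k) := fun e => by
    rcases Int.units_eq_one_or e with rfl | rfl
    · exact ⟨1, map_one _⟩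
    · exact ⟨Pi.mulSingle i₀ (swp _), by rw [prodSign_single, wrSign_swp]⟩
  rw [← (EvenPW k).card_mul_index, Subgroup.index_ker, MonoidHom.range_eq_top.2 hs,
    Subgroup.card_top, Nat.card_eq_fintype_card (α := ℤˣ), Fintype.card_units_int]

/-- the exceptional case: the Sylow subgroup of the alternating group of degree four -/
theorem dec_even_four (k : ι → ℕ) (i₀ : ι) (h : ∀ i, i = i₀) (hk : k i₀ = 0) :
    Dec ↥(EvenPW k) := by
  haveI : Fact (Nat.Prime 2) := ⟨Nat.prime_two⟩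
  have hcard : Nat.card ↥(EvenPW k) = 4 := by
    have h1 := card_even k i₀
    have h2 := card_PW k
    have hu : (Finset.univ : Finset ι) = {i₀} := by ext i; simp [h i]
    rw [Fintype.card, hu, Finset.sum_singleton, Finset.card_singleton, hk] at h2
    norm_num at h2
    omega
  have hab : IsMulCommutative ↥(EvenPW k) :=
    IsPGroup.isMulCommutative_of_card_eq_prime_sq (p := 2) (hcard.trans rfl)
  -- two involutions
  let z : PW k := fun i => cen _
  have key : ∀ m, m = 0 → ∃ u v : Wr (m + 2), wrSign _ u = 1 ∧ wrSign _ v = 1 ∧ u ≠ 1 ∧ v ≠ 1 ∧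
      u ≠ v ∧ u * u = 1 ∧ v * v = 1 := by
    rintro m rfl
    refine ⟨cen 2, RegularWreathProduct.inl (-1), wrSign_cen 0, ?_, cen_ne_one 1, ?_, ?_,
      cen_mul_self 2, ?_⟩
    · refine (wrSign_succ_succ 0 _).trans ?_
      show wrSign 1 (1 : Wr 1) * wrSign 1 1 = 1
      rw [map_one, one_mul]
    · intro h1
      exact absurd (congrArg RegularWreathProduct.right h1) (show ¬ ((-1 : ℤˣ) = 1) by decide)
    · intro h1
      exact absurd (congrArg RegularWreathProduct.right h1) (show ¬ ((1 : ℤˣ) = -1) by decide)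
    · exact RegularWreathProduct.ext (funext fun q => one_mul 1) (Int.units_mul_self _)
  obtain ⟨u, v, hu, hv, hu1, hv1, huv, hu2, hv2⟩ := key _ hk
  let U : ↥(EvenPW k) := ⟨Pi.mulSingle i₀ u, (prodSign_single k i₀ u).trans hu⟩
  let V : ↥(EvenPW k) := ⟨Pi.mulSingle i₀ v, (prodSign_single k i₀ v).trans hv⟩
  have hU : orderOf U = 2 := orderOf_eq_prime
    (Subtype.ext (by show Pi.mulSingle i₀ u ^ 2 = (1 : PW k); rw [pow_two, ← Pi.mulSingle_mul, hu2, Pi.mulSingle_one]))
    (fun h1 => hu1 (by simpa [U, Subtype.ext_iff] using h1))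
  have hV : orderOf V = 2 := orderOf_eq_prime
    (Subtype.ext (by show Pi.mulSingle i₀ v ^ 2 = (1 : PW k); rw [pow_two, ← Pi.mulSingle_mul, hv2, Pi.mulSingle_one]))
    (fun h1 => hv1 (by simpa [V, Subtype.ext_iff] using h1))
  have hi : Subgroup.zpowers U ⊓ Subgroup.zpowers V = ⊥ := by
    by_contra hne
    have e1 : Subgroup.zpowers U ⊓ Subgroup.zpowers V = Subgroup.zpowers U :=
      Subgroup.eq_of_le_of_card_ge inf_le_left (by
        rw [Nat.card_zpowers, hU]
        exact (Subgroup.one_lt_card_iff_ne_bot _).2 hne)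
    have e2 : U ∈ Subgroup.zpowers V :=
      inf_eq_left.1 e1 (Subgroup.mem_zpowers U)
    obtain ⟨n, hn⟩ := Subgroup.mem_zpowers_iff.1 e2
    rw [← zpow_mod_orderOf, hV] at hn
    rcases Int.emod_two_eq n with h2 | h2 <;> rw [show ((2 : ℕ) : ℤ) = 2 from rfl, h2] at hn
    · rw [zpow_zero] at hn
      exact hu1 (by simpa [U, Subtype.ext_iff] using hn.symm)
    · rw [zpow_one] at hn
      exact huv (by simpa [U, V, Subtype.ext_iff] using hn.symm)
  refine ⟨Subgroup.zpowers U, Subgroup.zpowers V, ?_, ?_, fun a _ b _ => hab.is_comm.comm a b, hi, ?_⟩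
  · rw [← Subgroup.one_lt_card_iff_ne_bot, Nat.card_zpowers, hU]; norm_num
  · rw [← Subgroup.one_lt_card_iff_ne_bot, Nat.card_zpowers, hV]; norm_num
  · refine Subgroup.eq_top_of_le_card _ ?_
    rw [hcard]
    have hlt : Subgroup.zpowers U < Subgroup.zpowers U ⊔ Subgroup.zpowers V := by
      refine lt_of_le_of_ne le_sup_left fun h1 => ?_
      have : Subgroup.zpowers V ≤ Subgroup.zpowers U := h1 ▸ le_sup_right
      rw [inf_eq_right.2 this] at hi
      exact (Subgroup.one_lt_card_iff_ne_bot _).1 (by rw [Nat.card_zpowers, hV]; norm_num) hi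
    have h1 := Subgroup.card_dvd_of_le hlt.le
    have h3 : Nat.card ↥(Subgroup.zpowers U) < Nat.card ↥(Subgroup.zpowers U ⊔ Subgroup.zpowers V) := by
      by_contra hle
      exact hlt.ne (Subgroup.eq_of_le_of_card_ge hlt.le (not_lt.1 hle))
    rw [Nat.card_zpowers, hU] at h1 h3
    omega

end

end Cfsg.Agent.Lib.SylowAltDecomp
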