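import Mathlib
import Cfsg.Agent.Lib.SylowAltDecomp.Product
import Cfsg.Agent.Lib.ClassicalSylowTwo.Group

/-!
The Sylow 2-subgroups of the alternating groups as products of iterated wreath products, and their
decomposability.
-/

set_option autoImplicit false

namespace Cfsg.Agent.Lib.SylowAltDecomp

noncomputable section

theorem v_fact_four (j : ℕ) :
    padicValNat 2 (4 * j).factorial = padicValNat 2 j.factorial + 3 * j := by
  haveI : Fact (Nat.Prime 2) := ⟨Nat.prime_two⟩
  rw [show 4 * j = 2 * (2 * j) by ring, padicValNat_factorial_mul, padicValNat_factorial_mul]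
  ring

theorem v_fact_bits (j : ℕ) : padicValNat 2 j.factorial + j.bitIndices.length = j := by
  haveI : Fact (Nat.Prime 2) := ⟨Nat.prime_two⟩
  induction j using Nat.strong_induction_on with
  | _ j ih =>
    rcases Nat.even_or_odd' j with ⟨i, rfl | rfl⟩
    · rcases Nat.eq_zero_or_pos i with rfl | hi
      · simp
      · rw [padicValNat_factorial_mul, Nat.bitIndices_two_mul, List.length_map]
        have := ih i (by omega)
        omega
    · rw [padicValNat_factorial_mul_add i (by norm_num), padicValNat_factorial_mul,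
        Nat.bitIndices_two_mul_add_one, List.length_cons, List.length_map]
      have := ih i (by omega)
      omega

theorem v_fact_mod (j r : ℕ) (hr : r < 4) :
    padicValNat 2 (4 * j + r).factorial =
      padicValNat 2 (4 * j).factorial + if r ≤ 1 then 0 else 1 := by
  haveI : Fact (Nat.Prime 2) := ⟨Nat.prime_two⟩
  rcases Nat.lt_or_ge r 2 with h | h
  · rw [show 4 * j + r = 2 * (2 * j) + r by ring, padicValNat_factorial_mul_add _ h,
      show 2 * (2 * j) = 4 * j by ring, if_pos (by omega), add_zero]
  · rw [show 4 * j + r = 2 * (2 * j + 1) + (r - 2) by omega,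
      padicValNat_factorial_mul_add _ (by omega), padicValNat_factorial_mul,
      padicValNat_factorial_mul_add j (by norm_num), padicValNat_factorial_mul,
      v_fact_four, if_neg (by omega)]
    omega

theorem alt_fact (n : ℕ) (hn : 2 ≤ n) :
    (Nat.card (alternatingGroup (Fin n))).factorization 2 + 1 = padicValNat 2 n.factorial := by
  haveI : Nontrivial (Fin n) := Fin.nontrivial_iff_two_le.2 hn
  have h := two_mul_nat_card_alternatingGroup (α := Fin n)
  rw [Nat.card_perm, Nat.card_fin] at h
  rw [← h, ← Nat.factorization_def _ Nat.prime_two,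
    Nat.factorization_mul (by norm_num) Nat.card_pos.ne', Finsupp.add_apply,
    Nat.Prime.factorization_self Nat.prime_two]
  omega

variable {ι : Type*} [Fintype ι] [DecidableEq ι]

theorem sign_sigma {β : ι → Type*} [∀ i, Fintype (β i)] [∀ i, DecidableEq (β i)]
    (σ : ∀ i, Equiv.Perm (β i)) :
    Equiv.Perm.sign (Equiv.Perm.sigmaCongrRight σ) = ∏ i, Equiv.Perm.sign (σ i) := by
  classical
  have hsingle : ∀ (i : ι) (π : Equiv.Perm (β i)),
      Equiv.Perm.sign (Equiv.Perm.sigmaCongrRightHom β (Pi.mulSingle i π)) = Equiv.Perm.sign π := by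
    intro i π
    induction π using Equiv.Perm.swap_induction_on with
    | one => rw [Pi.mulSingle_one, map_one, map_one, map_one]
    | swap_mul f x y hxy ih =>
      rw [Pi.mulSingle_mul, map_mul, map_mul, map_mul, ih]
      congr 1
      have : Equiv.Perm.sigmaCongrRightHom β (Pi.mulSingle i (Equiv.swap x y)) =
          Equiv.swap (⟨i, x⟩ : Σ a, β a) ⟨i, y⟩ := by
        ext ⟨a, b⟩ : 1
        show (⟨a, (Pi.mulSingle i (Equiv.swap x y) : ∀ a, Equiv.Perm (β a)) a b⟩ : Σ a, β a) = _
        rcases eq_or_ne a i with rfl | ha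
        · rw [Pi.mulSingle_eq_same]
          rcases eq_or_ne b x with rfl | hbx
          · rw [Equiv.swap_apply_left, Equiv.swap_apply_left]
          rcases eq_or_ne b y with rfl | hby
          · rw [Equiv.swap_apply_right, Equiv.swap_apply_right]
          rw [Equiv.swap_apply_of_ne_of_ne hbx hby, Equiv.swap_apply_of_ne_of_ne]
          · exact fun h => hbx (eq_of_heq (Sigma.mk.inj_iff.1 h).2)
          · exact fun h => hby (eq_of_heq (Sigma.mk.inj_iff.1 h).2)
        · rw [Pi.mulSingle_eq_of_ne ha, Equiv.Perm.one_apply, Equiv.swap_apply_of_ne_of_ne]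
          · exact fun h => ha (congrArg Sigma.fst h)
          · exact fun h => ha (congrArg Sigma.fst h)
      rw [this, Equiv.Perm.sign_swap hxy, Equiv.Perm.sign_swap]
      exact fun h => hxy (eq_of_heq (Sigma.mk.inj_iff.1 h).2)
  let L : (∀ i, Equiv.Perm (β i)) →* ℤˣ :=
    Equiv.Perm.sign.comp (Equiv.Perm.sigmaCongrRightHom β)
  let R : (∀ i, Equiv.Perm (β i)) →* ℤˣ :=
    ∏ i, Equiv.Perm.sign.comp (Pi.evalMonoidHom (fun i => Equiv.Perm (β i)) i)
  have hR : ∀ σ, R σ = ∏ i, Equiv.Perm.sign (σ i) := fun σ => by simp [R]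
  rw [← hR]
  show L σ = R σ
  have h : σ ∈ L.eqLocus R := Subgroup.pi_mem_of_mulSingle_mem σ fun i => by
    show L _ = R _
    rw [hR, Finset.prod_eq_single i (fun j _ hj => by rw [Pi.mulSingle_eq_of_ne hj, map_one])
      (fun h => absurd (Finset.mem_univ i) h), Pi.mulSingle_eq_same]
    exact hsingle i (σ i)
  exact h

/-- the points -/
abbrev Pts (k : ι → ℕ) (r : ℕ) : Type _ := (Σ i, Fin (k i + 2) → ℤˣ) ⊕ Fin r

/-- the representation, with a correction on the remaining points -/
def rep (k : ι → ℕ) {r : ℕ} (e : ℤˣ →* Equiv.Perm (Fin r)) : PW k →* Equiv.Perm (Pts k r) :=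
  (Equiv.Perm.sumCongrHom _ _).comp
    (((Equiv.Perm.sigmaCongrRightHom _).comp (Pi.monoidHom fun i =>
      (wrPerm (k i + 2)).comp (Pi.evalMonoidHom (fun i => Wr (k i + 2)) i))).prod
      (e.comp (prodSign k)))

theorem rep_injective (k : ι → ℕ) {r : ℕ} (e : ℤˣ →* Equiv.Perm (Fin r)) :
    Function.Injective (rep k e) := fun x y h => by
  have h1 := congrArg Prod.fst (Equiv.Perm.sumCongrHom_injective h)
  exact funext fun i => iteratedWreathToPermHomInj ℤˣ _
    (congrFun (Equiv.Perm.sigmaCongrRightHom_injective h1) i)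

theorem sign_rep (k : ι → ℕ) {r : ℕ} (e : ℤˣ →* Equiv.Perm (Fin r)) (x : PW k) :
    Equiv.Perm.sign (rep k e x) = prodSign k x * Equiv.Perm.sign (e (prodSign k x)) := by
  show Equiv.Perm.sign (Equiv.Perm.sumCongr (Equiv.Perm.sigmaCongrRight
    (fun i => wrPerm (k i + 2) (x i))) (e (prodSign k x))) = _
  rw [Equiv.Perm.sign_sumCongr, sign_sigma]
  rfl

/-- the model embeds into the alternating group -/
theorem exists_hom_alt (k : ι → ℕ) {r : ℕ} (e : ℤˣ →* Equiv.Perm (Fin r)) (H : Subgroup (PW k))
    (hH : ∀ x ∈ H, prodSign k x * Equiv.Perm.sign (e (prodSign k x)) = 1) (n : ℕ)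
    (hn : n = (∑ i, 2 ^ (k i + 2)) + r) :
    ∃ f : ↥H →* alternatingGroup (Fin n), Function.Injective f := by
  classical
  have hc : Fintype.card (Pts k r) = Fintype.card (Fin n) := by
    rw [hn, Fintype.card_fin, Fintype.card_sum, Fintype.card_sigma, Fintype.card_fin]
    simp
  let eq := Fintype.equivOfCardEq hc
  let f₀ : ↥H →* Equiv.Perm (Fin n) :=
    eq.permCongrHom.toMonoidHom.comp ((rep k e).comp H.subtype)
  refine ⟨f₀.codRestrict _ fun x => ?_, fun x y h => ?_⟩
  · rw [Equiv.Perm.mem_alternatingGroup]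
    show Equiv.Perm.sign (eq.permCongr (rep k e x.1)) = 1
    rw [Equiv.Perm.sign_permCongr, sign_rep, hH x.1 x.2]
  · exact Subtype.ext (rep_injective k e (eq.permCongrHom.injective (congrArg Subtype.val h)))

/-- the swap of two remaining points -/
def extra (r : ℕ) (hr : 2 ≤ r) : ℤˣ →* Equiv.Perm (Fin r) where
  toFun e := if e = 1 then 1 else Equiv.swap ⟨0, by omega⟩ ⟨1, by omega⟩
  map_one' := if_pos rfl
  map_mul' a b := by
    rcases Int.units_eq_one_or a with rfl | rfl <;> rcases Int.units_eq_one_or b with rfl | rfl <;>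
      simp [Int.units_mul_self]

theorem sign_extra (r : ℕ) (hr : 2 ≤ r) (e : ℤˣ) : Equiv.Perm.sign (extra r hr e) = e := by
  rcases Int.units_eq_one_or e with rfl | rfl
  · simp [extra]
  · show Equiv.Perm.sign (if (-1 : ℤˣ) = 1 then 1 else Equiv.swap (⟨0, _⟩ : Fin r) ⟨1, _⟩) = -1
    rw [if_neg (by decide), Equiv.Perm.sign_swap (by simp [Fin.ext_iff])]

/-- the decomposability of a Sylow 2-subgroup of an alternating group -/
theorem dec_sylow_iff (n : ℕ) (hn : 4 ≤ n) (P : Sylow 2 (alternatingGroup (Fin n))) :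
    Dec ↥(P : Subgroup (alternatingGroup (Fin n))) ↔
      (n = 4 ∨ n = 5 ∨ ((n % 4 = 2 ∨ n % 4 = 3) ∧ ∀ r : ℕ, 4 * (n / 4) ≠ 2 ^ r)) := by
  set j := n / 4
  set r := n % 4
  set l := j.bitIndices with hl
  let k : Fin l.length → ℕ := fun i => l[i]
  have hnd : n = 4 * j + r := (Nat.div_add_mod n 4).symm
  have hsum : ∑ i, 2 ^ (k i + 2) = 4 * j := by
    have h1 := Nat.sum_map_two_pow_bitIndices j
    rw [← hl, ← Fin.sum_univ_fun_getElem l (fun i => 2 ^ i)] at h1
    rw [← h1, Finset.mul_sum]
    exact Finset.sum_congr rfl fun i _ => by simp [k, pow_add, mul_comm]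
  have hj : 1 ≤ j := by omega
  have hpos : 0 < l.length := by
    rcases Nat.eq_zero_or_pos l.length with h | h
    · have := Nat.sum_map_two_pow_bitIndices j
      rw [← hl, List.eq_nil_iff_length_eq_zero.2 h] at this
      simp at this
      omega
    · exact h
  let i₀ : Fin l.length := ⟨0, hpos⟩
  have hcard : Nat.card (PW k) = 2 ^ padicValNat 2 (4 * j).factorial := by
    have h1 := card_PW k
    rw [hsum, Fintype.card_fin] at h1
    have h2 := v_fact_bits j
    rw [← hl] at h2
    rw [v_fact_four, ← mul_left_inj' (pow_ne_zero l.length (two_ne_zero (α := ℕ))), h1, ← pow_add]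
    congr 1
    omega
  have halt := alt_fact n (by omega)
  conv_rhs at halt => rw [hnd, v_fact_mod j r (Nat.mod_lt _ (by norm_num))]
  -- a single term
  have hone : (∀ i : Fin l.length, i = i₀) ↔ ∃ a, 4 * j = 2 ^ a := by
    constructor
    · intro h
      refine ⟨k i₀ + 2, ?_⟩
      rw [← hsum, show (Finset.univ : Finset (Fin l.length)) = {i₀} by ext i; simp [h i],
        Finset.sum_singleton]
    · rintro ⟨a, ha⟩
      have hlen : l.length = 1 := by
        obtain ⟨b, rfl⟩ : ∃ b, a = b + 2 := ⟨a - 2, by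
          rcases a with _ | _ | a <;> omega⟩
        have : j = 2 ^ b := by rw [pow_add] at ha; omega
        rw [hl, this, Nat.bitIndices_two_pow, List.length_singleton]
      exact fun i => Fin.ext (by have := i.2; simp [i₀]; omega)
  rcases Nat.lt_or_ge r 2 with hr | hr
  · -- the kernel of the product of signs
    obtain ⟨f, hf⟩ := exists_hom_alt k (r := r) 1 (EvenPW k)
      (fun x hx => by simp [MonoidHom.mem_ker.1 hx]) n (by omega)
    obtain ⟨e⟩ := ClassicalSylowTwo.exists_sylow_equiv f hf (by
      rw [← mul_left_inj' (two_ne_zero (α := ℕ)), card_even k i₀, hcard, ← pow_succ]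
      rw [if_pos (by omega), add_zero] at halt
      rw [halt]) P
    have hiff : Dec ↥(P : Subgroup (alternatingGroup (Fin n))) ↔ Dec ↥(EvenPW k) :=
      ⟨fun h => h.of_equiv e.symm, fun h => h.of_equiv e⟩
    rw [hiff]
    by_cases h4 : n = 4 ∨ n = 5
    · have hj1 : j = 1 := by omega
      have hall : ∀ i : Fin l.length, i = i₀ := hone.2 ⟨2, by omega⟩
      have hk0 : k i₀ = 0 := by
        have h1 := hsum
        rw [show (Finset.univ : Finset (Fin l.length)) = {i₀} by ext i; simp [hall i],
          Finset.sum_singleton, hj1] at h1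
        have := Nat.pow_right_injective le_rfl (h1.trans (by norm_num : 4 * 1 = 2 ^ 2))
        omega
      exact ⟨fun _ => by omega, fun _ => dec_even_four k i₀ hall hk0⟩
    · refine ⟨fun h => absurd h (not_dec_even k ?_), fun h => by omega⟩
      by_cases hall : ∀ i : Fin l.length, i = i₀
      · refine Or.inr ⟨i₀, hall, ?_⟩
        have h1 := hsum
        rw [show (Finset.univ : Finset (Fin l.length)) = {i₀} by ext i; simp [hall i],
          Finset.sum_singleton] at h1
        by_contra hk
        rw [show k i₀ = 0 by omega] at h1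
        omega
      · refine Or.inl fun i => ?_
        push Not at hall
        obtain ⟨i₁, h₁⟩ := hall
        rcases eq_or_ne i i₀ with rfl | h
        · exact ⟨i₁, h₁⟩
        · exact ⟨i₀, h.symm⟩
  · -- the whole product
    obtain ⟨f, hf⟩ := exists_hom_alt k (extra r hr) ⊤
      (fun x _ => by rw [sign_extra, Int.units_mul_self]) n (by omega)
    obtain ⟨e⟩ := ClassicalSylowTwo.exists_sylow_equiv f hf (by
      rw [Subgroup.card_top, hcard]
      rw [if_neg (by omega)] at halt
      congr 1
      omega) P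
    have hiff : Dec ↥(P : Subgroup (alternatingGroup (Fin n))) ↔ Dec (PW k) :=
      ⟨fun h => h.of_equiv (e.symm.trans Subgroup.topEquiv),
        fun h => h.of_equiv (Subgroup.topEquiv.symm.trans e)⟩
    rw [hiff]
    constructor
    · intro h
      refine Or.inr (Or.inr ⟨by omega, fun a ha => ?_⟩)
      exact not_dec_single k i₀ (hone.2 ⟨a, ha⟩) h
    · intro h
      have hnot : ¬ ∀ i : Fin l.length, i = i₀ := fun hall => by
        obtain ⟨a, ha⟩ := hone.1 hall
        rcases h with h | h | ⟨-, h⟩
        · omega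
        · omega
        · exact h a ha
      push Not at hnot
      obtain ⟨i₁, h₁⟩ := hnot
      exact dec_multi k i₁ i₀ h₁

end

end Cfsg.Agent.Lib.SylowAltDecomp
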